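import Groth.Agent.Lib.DerivedOX.DualBidualPerfect
import Groth.Agent.Lib.DerivedOX.DualMain
import Groth.Agent.H83.ExtFinite.Main
import Groth.Prelude.Def_KLin
import Mathlib.CategoryTheory.Localization.Opposite

/-!
# The dual as a functor on the derived category
-/

set_option autoImplicit false
set_option linter.style.haveILetI false
set_option linter.unusedSectionVars false

universe u

open CategoryTheory CategoryTheory.Limits CategoryTheory.Pretriangulated AlgebraicGeometry Opposite HomologicalComplex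

attribute [local instance] HasDerivedCategory.standard

namespace Groth.Agent.H83.Duality

open Groth.Agent.Lib Groth.Agent.Lib.DerivedOX DualHom DualQis DualBidual

variable {X : Scheme.{u}}

/-- A K-injective resolution of the structure sheaf. -/
structure Res (X : Scheme.{u}) where
  J : CochainComplex X.Modules ℤ
  ι : DualFree.one X ⟶ J
  kinj : J.IsKInjective
  qis : QuasiIso ι
  inj : InjTerms J

theorem nonempty_res : Nonempty (Res X) := by
  obtain ⟨J, i, h, q, -, n⟩ := DerCat.KInjExists.exists_kInjective_resolution (DualFree.one X)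
  exact ⟨⟨J, i, h, q, n⟩⟩

variable (r : Res X)

theorem quasiIso_pre {P' P : CochainComplex X.Modules ℤ} (a : P' ⟶ P) [QuasiIso a] :
    QuasiIso ((pre a).app r.J) :=
  haveI := r.kinj
  (Qis.quasiIso_iff_forall_stalk _).2 fun x =>
    qisAt_pre (V := ⊤) r.inj a (QisAt.of_quasiIso a) x trivial

/-- The dual of a complex, in the derived category. -/
noncomputable def D0 : (CochainComplex X.Modules ℤ)ᵒᵖ ⥤ DCoh.D X where
  obj P := DerivedCategory.Q.obj ((Hc P.unop).obj r.J)
  map a := DerivedCategory.Q.map ((pre a.unop).app r.J)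
  map_id P := by
    rw [unop_id, pre_id, NatTrans.id_app, CategoryTheory.Functor.map_id]
  map_comp a b := by
    rw [unop_comp, pre_comp, NatTrans.comp_app, Functor.map_comp]

theorem inverts : (HomologicalComplex.quasiIso X.Modules (.up ℤ)).op.IsInvertedBy (D0 r) :=
  fun _ _ a ha => by
    haveI : QuasiIso a.unop := ha
    haveI := quasiIso_pre r a.unop
    change IsIso (DerivedCategory.Q.map ((pre a.unop).app r.J))
    infer_instance

/-- The dual functor. -/
noncomputable def dual : (DCoh.D X)ᵒᵖ ⥤ DCoh.D X :=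
  Localization.lift (D0 r) (inverts r) DerivedCategory.Q.op

/-- The dual on complexes. -/
noncomputable def dualFac : DerivedCategory.Q.op ⋙ dual r ≅ D0 r :=
  Localization.fac (D0 r) (inverts r) DerivedCategory.Q.op

/-- `Q P ⟶ D(D(Q P))`. -/
noncomputable def β0 : (DerivedCategory.Q (C := X.Modules)) ⟶
    DerivedCategory.Q ⋙ ((dual r).rightOp ⋙ dual r) where
  app P := DerivedCategory.Q.map (bd r.J P) ≫ (dualFac r).inv.app (op ((Hc P).obj r.J)) ≫
    (dual r).map (((dualFac r).hom.app (op P))).op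
  naturality P' P a := by
    have h1 : DerivedCategory.Q.map a ≫ DerivedCategory.Q.map (bd r.J P) =
        DerivedCategory.Q.map (bd r.J P') ≫ (D0 r).map ((pre a).app r.J).op := by
      rw [← Functor.map_comp, ← bd_natural, Functor.map_comp]
      rfl
    have h2 := (dualFac r).inv.naturality ((pre a).app r.J).op
    have h3 := (dualFac r).hom.naturality a.op
    change DerivedCategory.Q.map a ≫ DerivedCategory.Q.map (bd r.J P) ≫ _ ≫ _ =
      (_ ≫ _ ≫ _) ≫ (dual r).map ((dual r).map (DerivedCategory.Q.map a).op).op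
    refine ((Category.assoc _ _ _).symm.trans (congrArg (· ≫ _) h1)).trans ?_
    refine (Category.assoc _ _ _).trans ((congrArg (_ ≫ ·) ((Category.assoc _ _ _).symm.trans
      ((congrArg (· ≫ _) h2).trans (Category.assoc _ _ _)))).trans ?_)
    refine Eq.trans ?_ (Category.assoc _ _ _).symm
    refine congrArg (DerivedCategory.Q.map (bd r.J P') ≫ ·) ?_
    refine Eq.trans ?_ (Category.assoc _ _ _).symm
    refine congrArg ((dualFac r).inv.app _ ≫ ·) ?_
    refine ((dual r).map_comp _ _).symm.trans (Eq.trans ?_ ((dual r).map_comp _ _))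
    exact congrArg (dual r).map (congrArg Quiver.Hom.op h3.symm)

noncomputable local instance : Localization.Lifting DerivedCategory.Q
    (HomologicalComplex.quasiIso X.Modules (.up ℤ)) (DerivedCategory.Q (C := X.Modules)) (𝟭 (DCoh.D X)) :=
  ⟨Functor.rightUnitor _⟩

noncomputable local instance : Localization.Lifting DerivedCategory.Q
    (HomologicalComplex.quasiIso X.Modules (.up ℤ))
    (DerivedCategory.Q ⋙ ((dual r).rightOp ⋙ dual r)) ((dual r).rightOp ⋙ dual r) :=
  ⟨Iso.refl _⟩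

/-- The biduality map. -/
noncomputable def β : 𝟭 (DCoh.D X) ⟶ (dual r).rightOp ⋙ dual r :=
  Localization.liftNatTrans DerivedCategory.Q (HomologicalComplex.quasiIso X.Modules (.up ℤ))
    DerivedCategory.Q (DerivedCategory.Q ⋙ ((dual r).rightOp ⋙ dual r)) _ _ (β0 r)

theorem β_app (P : CochainComplex X.Modules ℤ) :
    (β r).app (DerivedCategory.Q.obj P) = (β0 r).app P :=
  (Localization.liftNatTrans_app _ _ _ _ _ _ _ _).trans
    ((Category.id_comp _).trans (Category.comp_id _))

theorem isIso_β {K : DCoh.D X} (hK : DCoh.IsPerfect K) : IsIso ((β r).app K) := by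
  let P := (KFlat.res X).obj (DerivedCategory.Q.objPreimage K)
  let e : DerivedCategory.Q.obj P ≅ K :=
    asIso (DerivedCategory.Q.map ((KFlat.aug X).app _)) ≪≫ DerivedCategory.Q.objObjPreimageIso K
  suffices IsIso ((β r).app (DerivedCategory.Q.obj P)) from (NatTrans.isIso_app_iff_of_iso _ e).1 this
  rw [β_app]
  haveI := r.kinj
  haveI := r.qis
  haveI := DualBidualPerfect.quasiIso_bd r.inj r.ι (KFlat.isKFlat_res _)
    (Perfect.Triangle.isPerfect_of_iso e.symm hK)
  haveI : IsIso (DerivedCategory.Q.map (bd r.J P)) := inferInstance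
  exact IsIso.comp_isIso' inferInstance (IsIso.comp_isIso'
    (((dualFac r).app (op ((Hc P).obj r.J))).isIso_inv)
    (((dual r).mapIso ((dualFac r).app (op P)).op).isIso_hom))

theorem isPerfect_dual {K : DCoh.D X} (hK : DCoh.IsPerfect K) :
    DCoh.IsPerfect ((dual r).obj (op K)) := by
  let P := (KFlat.res X).obj (DerivedCategory.Q.objPreimage K)
  let e : DerivedCategory.Q.obj P ≅ K :=
    asIso (DerivedCategory.Q.map ((KFlat.aug X).app _)) ≪≫ DerivedCategory.Q.objObjPreimageIso K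
  haveI := LeftExists.hasLTensorCx P
  haveI := DualHomExists.hasRSheafHom P
  have hP := Perfect.Triangle.isPerfect_of_iso e.symm hK
  haveI := r.kinj
  haveI := r.qis
  obtain ⟨J₀, hp, ⟨e₀⟩⟩ := DualMain.exists_dual (KFlat.isKFlat_res _) (𝟙 P) hP
  obtain ⟨eK⟩ := DualCompare.nonempty_RSheafHom_iso (K := P) (KFlat.isKFlat_res _) (𝟙 P) r.inj
  let eJ : DerivedCategory.Q.obj r.J ≅ DCoh.inD X (Coh.structureModule X) :=
    (asIso (DerivedCategory.Q.map r.ι)).symm ≪≫
      ((DerivedCategory.singleFunctorIsoCompQ X.Modules 0).app _).symm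
  exact Perfect.Triangle.isPerfect_of_iso
    ((dual r).mapIso e.op ≪≫ (dualFac r).app (op P) ≪≫ eK ≪≫ (DCoh.RSheafHom P).mapIso eJ ≪≫ e₀.symm).symm hp

section Linear

variable {A : Type u} [CommRing A] [X.Over (Spec (CommRingCat.of A))]

theorem tensor_obj_map_smul (a : A) (H P : CochainComplex X.Modules ℤ) :
    (DCoh.tensorCx.obj H).map (a • 𝟙 P) = a • 𝟙 ((DCoh.tensorCx.obj H).obj P) := by
  haveI : IsIso (commT H P) := inferInstanceAs (IsIso (commCx H P).hom)
  rw [← cancel_mono (commT H P), commT_right]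
  change commT H P ≫ ((DCoh.tensorCx (X := X)).flip.obj H).map (a • 𝟙 P) = _
  rw [ExtFinite.tensorCx_smul a P H]
  exact (CategoryTheory.Linear.comp_smul _ _ _ _ _ _).trans
    ((congrArg (a • ·) ((Category.comp_id _).trans (Category.id_comp _).symm)).trans
      (CategoryTheory.Linear.smul_comp _ _ _ _ _ _).symm)

theorem pre_smul (a : A) (P : CochainComplex X.Modules ℤ) :
    (pre (a • 𝟙 P)).app r.J = a • 𝟙 ((Hc P).obj r.J) := by
  apply ((adj P).homEquiv _ _).symm.injective
  have h := homEquiv_symm_comp_pre (a • 𝟙 P) r.J (𝟙 ((Hc P).obj r.J))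
  rw [Category.id_comp] at h
  rw [h, tensor_obj_map_smul, Adjunction.homEquiv_counit, Adjunction.homEquiv_counit]
  rw [CategoryTheory.Functor.map_id, Category.id_comp]
  refine Eq.trans ?_ (congrArg (· ≫ _) (ExtFinite.tensorCx_smul a ((Hc P).obj r.J) P).symm)
  rfl

theorem dual_map_smul_id (a : A) (K : DCoh.D X) :
    (dual r).map (a • 𝟙 K).op = a • 𝟙 ((dual r).obj (op K)) := by
  let e : DerivedCategory.Q.obj (DerivedCategory.Q.objPreimage K) ≅ K := DerivedCategory.Q.objObjPreimageIso K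
  let P := DerivedCategory.Q.objPreimage K
  have hP : (dual r).map (a • 𝟙 (DerivedCategory.Q.obj P)).op =
      a • 𝟙 ((dual r).obj (op (DerivedCategory.Q.obj P))) := by
    have h1 : a • 𝟙 (DerivedCategory.Q.obj P) = DerivedCategory.Q.map (a • 𝟙 P) := by
      rw [Functor.map_smul, CategoryTheory.Functor.map_id]
    rw [h1]
    have hn := (dualFac r).hom.naturality (a • 𝟙 P).op
    have h2 : (D0 r).map (a • 𝟙 P).op = a • 𝟙 _ := by
      change DerivedCategory.Q.map ((pre (a • 𝟙 P)).app r.J) = _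
      rw [pre_smul, Functor.map_smul, CategoryTheory.Functor.map_id]
      rfl
    rw [h2] at hn
    refine (cancel_mono ((dualFac r).hom.app (op P))).1 (hn.trans ?_)
    exact (CategoryTheory.Linear.comp_smul _ _ _ _ _ _).trans
      ((congrArg (a • ·) ((Category.comp_id _).trans (Category.id_comp _).symm)).trans
        (CategoryTheory.Linear.smul_comp _ _ _ _ _ _).symm)
  have hK : a • 𝟙 K = e.inv ≫ (a • 𝟙 _) ≫ e.hom := by
    rw [CategoryTheory.Linear.smul_comp, Category.id_comp, CategoryTheory.Linear.comp_smul, e.inv_hom_id]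
  rw [hK, op_comp, op_comp, Functor.map_comp, Functor.map_comp, hP, CategoryTheory.Linear.comp_smul,
    Category.comp_id, CategoryTheory.Linear.smul_comp, ← Functor.map_comp, ← op_comp, e.inv_hom_id,
    op_id, CategoryTheory.Functor.map_id]

theorem dual_map_smul {K L : DCoh.D X} (a : A) (f : K ⟶ L) :
    (dual r).map (a • f).op = a • (dual r).map f.op := by
  have h : a • f = (a • 𝟙 K) ≫ f := by
    rw [CategoryTheory.Linear.smul_comp, Category.id_comp]
  rw [h, op_comp, Functor.map_comp, dual_map_smul_id, CategoryTheory.Linear.comp_smul, Category.comp_id]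

end Linear

/-- The dual of a distinguished triangle. -/
theorem exists_dual_triangle (T : Triangle (DCoh.D X)) (hT : T ∈ distTriang (DCoh.D X)) :
    ∃ δ : (dual r).obj (op T.obj₁) ⟶ ((dual r).obj (op T.obj₃))⟦(1 : ℤ)⟧,
      Triangle.mk ((dual r).map T.mor₂.op) ((dual r).map T.mor₁.op) δ ∈ distTriang (DCoh.D X) := by
  obtain ⟨A, B, φ, ⟨ι⟩⟩ := (DerivedCategory.mem_distTriang_iff _).1 (inv_rot_of_distTriang _ hT)
  let Q := DerivedCategory.Q (C := X.Modules)
  let S := LocalTor.Split.coneSeq φ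
  have hS : S.ShortExact := HomologicalComplex.shortExact_of_degreewise_shortExact _
    fun n => (LocalTor.Split.coneSplitting φ n).shortExact
  let T' := DerivedCategory.triangleOfSES (shortExact_hcSC' hS r.inj)
  have hT' : T' ∈ distTriang (DCoh.D X) := DerivedCategory.triangleOfSES_distinguished _
  let c : T.obj₃ ≅ Q.obj S.X₃ :=
    ((shiftFunctorCompIsoId (DCoh.D X) (-1 : ℤ) (1 : ℤ) (by norm_num)).app T.obj₃).symm ≪≫
      (shiftFunctor (DCoh.D X) (1 : ℤ)).mapIso (Triangle.π₁.mapIso ι) ≪≫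
      ((Q.commShiftIso (1 : ℤ)).app A).symm
  let e₁ : T.obj₁ ≅ Q.obj S.X₁ := Triangle.π₂.mapIso ι
  let e₂ : T.obj₂ ≅ Q.obj S.X₂ := Triangle.π₃.mapIso ι
  have h₁ : T.mor₁ ≫ e₂.hom = e₁.hom ≫ Q.map S.f := ι.hom.comm₂
  have h₂ : T.mor₂ ≫ c.hom = e₂.hom ≫ Q.map S.g := by
    have h : (T.mor₂ ≫ (shiftFunctorCompIsoId (DCoh.D X) (-1 : ℤ) (1 : ℤ) (by norm_num)).inv.app T.obj₃) ≫
        (shiftFunctor (DCoh.D X) (1 : ℤ)).map (Triangle.π₁.mapIso ι).hom =
          e₂.hom ≫ (Q.map S.g ≫ (Q.commShiftIso (1 : ℤ)).hom.app A) := ι.hom.comm₃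
    let η := (shiftFunctorCompIsoId (DCoh.D X) (-1 : ℤ) (1 : ℤ) (by norm_num)).inv.app T.obj₃
    have h0 : T.mor₂ ≫ c.hom = ((T.mor₂ ≫ η) ≫
        (shiftFunctor (DCoh.D X) (1 : ℤ)).map (Triangle.π₁.mapIso ι).hom) ≫
          ((Q.commShiftIso (1 : ℤ)).app A).inv :=
      (Category.assoc T.mor₂ η _).symm.trans (Category.assoc (T.mor₂ ≫ η) _ _).symm
    refine h0.trans ((congrArg (· ≫ _) h).trans ?_)
    refine (Category.assoc _ _ _).trans (congrArg (e₂.hom ≫ ·) ((Category.assoc _ _ _).trans ?_))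
    exact (congrArg (Q.map S.g ≫ ·) ((Q.commShiftIso (1 : ℤ)).app A).hom_inv_id).trans (Category.comp_id _)
  let d₁ : (dual r).obj (op T.obj₁) ≅ T'.obj₃ := (dual r).mapIso e₁.symm.op ≪≫ (dualFac r).app (op S.X₁)
  let d₂ : (dual r).obj (op T.obj₂) ≅ T'.obj₂ := (dual r).mapIso e₂.symm.op ≪≫ (dualFac r).app (op S.X₂)
  let d₃ : (dual r).obj (op T.obj₃) ≅ T'.obj₁ := (dual r).mapIso c.symm.op ≪≫ (dualFac r).app (op S.X₃)
  have key : ∀ {U V : DCoh.D X} {U' V' : CochainComplex X.Modules ℤ} (m : U ⟶ V) (m' : U' ⟶ V')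
      (a : U ≅ Q.obj U') (b : V ≅ Q.obj V'), m ≫ b.hom = a.hom ≫ Q.map m' →
      (dual r).map m.op ≫ ((dual r).mapIso a.symm.op ≪≫ (dualFac r).app (op U')).hom =
        ((dual r).mapIso b.symm.op ≪≫ (dualFac r).app (op V')).hom ≫
          DerivedCategory.Q.map ((pre m').app r.J) := by
    intro U V U' V' m m' a b hm
    have hm' : a.inv ≫ m = Q.map m' ≫ b.inv := by
      rw [Iso.eq_comp_inv, Category.assoc, hm, Iso.inv_hom_id_assoc]
    change (dual r).map m.op ≫ (dual r).map a.inv.op ≫ _ = ((dual r).map b.inv.op ≫ _) ≫ _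
    rw [← Category.assoc, ← Functor.map_comp, ← op_comp, hm', op_comp, Functor.map_comp]
    refine (Category.assoc _ _ _).trans (Eq.trans ?_ (Category.assoc _ _ _).symm)
    refine congrArg ((dual r).map b.inv.op ≫ ·) ?_
    exact (dualFac r).hom.naturality m'.op
  have k₁ : (dual r).map T.mor₂.op ≫ d₂.hom = d₃.hom ≫ T'.mor₁ := key T.mor₂ S.g e₂ c h₂
  have k₂ : (dual r).map T.mor₁.op ≫ d₁.hom = d₂.hom ≫ T'.mor₂ := key T.mor₁ S.f e₁ e₂ h₁
  refine ⟨d₁.hom ≫ T'.mor₃ ≫ d₃.inv⟦(1 : ℤ)⟧', isomorphic_distinguished _ hT' _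
    (Triangle.isoMk _ _ d₃ d₂ d₁ k₁ k₂ ?_)⟩
  exact (Category.assoc _ _ _).trans ((congrArg (d₁.hom ≫ ·) ((Category.assoc _ _ _).trans
    ((congrArg (T'.mor₃ ≫ ·) ((shiftFunctor (DCoh.D X) (1 : ℤ)).mapIso d₃).inv_hom_id).trans (Category.comp_id _)))))

end Groth.Agent.H83.Duality
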