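import Groth.Agent.H83.Duality.Basic
import Groth.Agent.S6746
import Mathlib.CategoryTheory.Triangulated.HomologicalFunctor

/-!
# Corepresentability on perfect objects of a regular proper scheme
-/

set_option autoImplicit false
set_option linter.style.haveILetI false
set_option linter.unusedSectionVars false

universe u

open CategoryTheory CategoryTheory.Limits CategoryTheory.Pretriangulated AlgebraicGeometry Opposite

attribute [local instance] HasDerivedCategory.standard

namespace Groth.Agent.H83.Duality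

open Groth.Agent.Lib
open scoped ZeroObject

variable {X : Scheme.{u}} (r : Res X)

theorem dual_map_injective {A B : DCoh.D X} (hB : DCoh.IsPerfect B) :
    Function.Injective fun g : A ⟶ B => (dual r).map g.op := by
  intro g g' h
  haveI := isIso_β r hB
  refine (cancel_mono ((β r).app B)).1 ?_
  exact ((β r).naturality g).trans ((congrArg
    (fun t : (dual r).obj (op B) ⟶ (dual r).obj (op A) => (β r).app A ≫ (dual r).map t.op) h).trans
    ((β r).naturality g').symm)

theorem dual_map_surjective {A B : DCoh.D X} (hA : DCoh.IsPerfect A) (hB : DCoh.IsPerfect B)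
    (h : (dual r).obj (op B) ⟶ (dual r).obj (op A)) : ∃ g : A ⟶ B, (dual r).map g.op = h := by
  haveI := isIso_β r hB
  refine ⟨(β r).app A ≫ (dual r).map h.op ≫ inv ((β r).app B), dual_map_injective r (isPerfect_dual r hA) ?_⟩
  haveI := isIso_β r hA
  refine (cancel_epi ((β r).app A)).1 ?_
  refine ((β r).naturality _).symm.trans ?_
  refine (Category.assoc _ _ _).trans (congrArg ((β r).app A ≫ ·) ?_)
  exact (Category.assoc _ _ _).trans ((congrArg ((dual r).map h.op ≫ ·) (IsIso.inv_hom_id _)).trans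
    (Category.comp_id _))

theorem dual_map_zero (A B : DCoh.D X) (hB : DCoh.IsPerfect B) (hA : DCoh.IsPerfect A) :
    IsZero A → IsZero ((dual r).obj (op A)) := fun h => by
  rw [IsZero.iff_id_eq_zero]
  obtain ⟨g, hg⟩ := dual_map_surjective r hA hA (0 : (dual r).obj (op A) ⟶ (dual r).obj (op A))
  rw [← hg, h.eq_of_src g (𝟙 A), op_id, CategoryTheory.Functor.map_id]

theorem nonempty_dual_shift_one {K : DCoh.D X} (hK : DCoh.IsPerfect K) :
    Nonempty ((dual r).obj (op K) ≅ ((dual r).obj (op (K⟦(1 : ℤ)⟧)))⟦(1 : ℤ)⟧) := by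
  have hT := rot_of_distTriang _ (contractible_distinguished K)
  obtain ⟨δ, hδ⟩ := exists_dual_triangle r _ hT
  have h0 : DCoh.IsPerfect (0 : DCoh.D X) :=
    Perfect.Triangle.isPerfect₃ (contractible_distinguished K) hK hK
  have hz : IsZero ((dual r).obj (op (0 : DCoh.D X))) := dual_map_zero r _ _ h0 h0 (isZero_zero _)
  haveI : IsIso δ := (Triangle.isZero₂_iff_isIso₃ _ hδ).1 hz
  exact ⟨@asIso _ _ _ _ δ (by assumption)⟩

theorem nonempty_dual_shift {K : DCoh.D X} (hK : DCoh.IsPerfect K) (n : ℤ) :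
    Nonempty ((dual r).obj (op (K⟦n⟧)) ≅ ((dual r).obj (op K))⟦-n⟧) := by
  have key : ∀ m : ℕ, ∀ B : DCoh.D X, DCoh.IsPerfect B →
      Nonempty ((dual r).obj (op B) ≅ ((dual r).obj (op (B⟦(m : ℤ)⟧)))⟦(m : ℤ)⟧) := by
    intro m
    induction m with
    | zero => exact fun B _ => ⟨(dual r).mapIso ((shiftFunctorZero' (DCoh.D X) _ Nat.cast_zero).app B).op ≪≫
        ((shiftFunctorZero' (DCoh.D X) _ Nat.cast_zero).app _).symm⟩
    | succ m ih =>
      intro B hB
      obtain ⟨e'⟩ := ih B hB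
      obtain ⟨e⟩ := nonempty_dual_shift_one r (Perfect.Triangle.isPerfect_shift hB (m : ℤ))
      exact ⟨e' ≪≫ (shiftFunctor _ (m : ℤ)).mapIso (e ≪≫ (shiftFunctor _ (1 : ℤ)).mapIso
        ((dual r).mapIso ((shiftFunctorAdd' (DCoh.D X) (m : ℤ) 1 _ (by push_cast; rfl)).app B).op)) ≪≫
        ((shiftFunctorAdd' (DCoh.D X) 1 (m : ℤ) _ (by push_cast; ring)).app _).symm⟩
  rcases le_total 0 n with h | h
  · lift n to ℕ using h
    obtain ⟨e⟩ := key n K hK
    exact ⟨((shiftFunctorCompIsoId (DCoh.D X) (n : ℤ) (-(n : ℤ)) (by omega)).app _).symm ≪≫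
      (shiftFunctor _ (-(n : ℤ))).mapIso e.symm⟩
  · obtain ⟨m, hm⟩ : ∃ m : ℕ, (m : ℤ) = -n := ⟨(-n).toNat, by omega⟩
    obtain ⟨e⟩ := key m (K⟦n⟧) (Perfect.Triangle.isPerfect_shift hK n)
    exact ⟨e ≪≫ (shiftFunctor _ (m : ℤ)).mapIso
      ((dual r).mapIso ((shiftFunctorCompIsoId (DCoh.D X) n (m : ℤ) (by omega)).app K).symm.op) ≪≫
      eqToIso (by rw [hm]; rfl)⟩

/-- The dual on perfect objects. -/
noncomputable def dualP : ((SGA6.perfP X).FullSubcategory)ᵒᵖ ⥤ (SGA6.perfP X).FullSubcategory :=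
  ObjectProperty.lift _ ((SGA6.perfP X).ι.op ⋙ dual r) fun E => isPerfect_dual r E.unop.property

theorem dualP_map_smul {A : Type u} [CommRing A] [X.Over (Spec (CommRingCat.of A))]
    {E E' : (SGA6.perfP X).FullSubcategory} (a : A) (f : E ⟶ E') :
    (dualP r).map (a • f).op = a • (dualP r).map f.op :=
  ObjectProperty.hom_ext _ (dual_map_smul r a f.hom)

instance full_dualP : (dualP r).Full := ⟨fun {A B} h => by
  obtain ⟨g, hg⟩ := dual_map_surjective r B.unop.property A.unop.property h.hom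
  exact ⟨(ObjectProperty.homMk g).op, ObjectProperty.hom_ext _ hg⟩⟩

instance faithful_dualP : (dualP r).Faithful := ⟨fun {A B f g} h =>
  Quiver.Hom.unop_inj (ObjectProperty.hom_ext _
    (dual_map_injective r A.unop.property (congrArg (fun t => t.hom) h)))⟩

instance essSurj_dualP : (dualP r).EssSurj := ⟨fun E => ⟨op ((dualP r).obj (op E)),
  haveI := isIso_β r E.property
  ⟨ObjectProperty.isoMk _ (asIso ((β r).app E.obj)).symm⟩⟩⟩

theorem additive_dualP [(SGA6.perfP X).IsTriangulated] : (dualP r).Additive := by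
  haveI : (dualP r).IsEquivalence := {}
  haveI : PreservesBinaryBiproducts (dualP r) :=
    preservesBinaryBiproducts_of_preservesBinaryProducts _
  exact Functor.additive_of_preservesBinaryBiproducts _

theorem exists_corep (k : Type u) [Field k] [X.Over (Spec (CommRingCat.of k))]
    [IsProper (X ↘ Spec (CommRingCat.of k))] (hreg : Models.IsRegularScheme X)
    [(SGA6.perfP X).IsTriangulated]
    (G : (SGA6.perfP X).FullSubcategory ⥤ ModuleCat.{u + 1} k) [G.Additive] [G.Linear k] [G.IsHomological]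
    (hfin : ∀ E : (SGA6.perfP X).FullSubcategory,
      (∀ n : ℤ, Module.Finite k (G.obj ((shiftFunctor ((SGA6.perfP X).FullSubcategory) n).obj E))) ∧
      Set.Finite {n : ℤ | Nontrivial (G.obj ((shiftFunctor ((SGA6.perfP X).FullSubcategory) n).obj E))}) :
    ∃ K : (SGA6.perfP X).FullSubcategory,
      Nonempty (G ≅ (linearCoyoneda k ((SGA6.perfP X).FullSubcategory)).obj (op K)) := by
  obtain ⟨r⟩ := nonempty_res (X := X)
  haveI := additive_dualP r
  let ι := (SGA6.perfP X).ι
  let H : ((SGA6.perfP X).FullSubcategory)ᵒᵖ ⥤ ModuleCat.{u + 1} k := dualP r ⋙ G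
  have hlin : ∀ (A B : (SGA6.perfP X).FullSubcategory) (a : k) (f : A ⟶ B), H.map (a • f).op = a • H.map f.op :=
    fun A B a f => (congrArg G.map (dualP_map_smul r a f)).trans (G.map_smul a _)
  have hsh : ∀ (E : (SGA6.perfP X).FullSubcategory) (n : ℤ),
      Nonempty (H.obj (op ((shiftFunctor ((SGA6.perfP X).FullSubcategory) n).obj E)) ≅
        G.obj ((shiftFunctor ((SGA6.perfP X).FullSubcategory) (-n)).obj ((dualP r).obj (op E)))) := by
    intro E n
    obtain ⟨e⟩ := nonempty_dual_shift r E.property n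
    exact ⟨G.mapIso (ObjectProperty.isoMk _ ((dual r).mapIso ((ι.commShiftIso n).app E).symm.op ≪≫ e ≪≫
      ((ι.commShiftIso (-n)).app ((dualP r).obj (op E))).symm))⟩
  have hfinH : ∀ E : (SGA6.perfP X).FullSubcategory,
      (∀ n : ℤ, Module.Finite k (H.obj (op ((shiftFunctor ((SGA6.perfP X).FullSubcategory) n).obj E)))) ∧
      Set.Finite {n : ℤ | Nontrivial (H.obj (op ((shiftFunctor ((SGA6.perfP X).FullSubcategory) n).obj E)))} := by
    intro E
    refine ⟨fun n => ?_, ((hfin ((dualP r).obj (op E))).2.image fun m => -m).subset fun n hn => ⟨-n, ?_, neg_neg n⟩⟩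
    · obtain ⟨e⟩ := hsh E n
      haveI := (hfin ((dualP r).obj (op E))).1 (-n)
      exact Module.Finite.equiv e.toLinearEquiv.symm
    · obtain ⟨e⟩ := hsh E n
      haveI : Nontrivial _ := hn
      exact e.toLinearEquiv.symm.toEquiv.nontrivial
  have hcoh : ∀ T ∈ distTriang (DCoh.D X), ∀ (h₁ : DCoh.IsPerfect T.obj₁)
      (h₂ : DCoh.IsPerfect T.obj₂) (h₃ : DCoh.IsPerfect T.obj₃)
      (y : H.obj (op ⟨T.obj₂, h₂⟩)),
      H.map (ObjectProperty.homMk T.mor₁ : (⟨T.obj₁, h₁⟩ : (SGA6.perfP X).FullSubcategory) ⟶ ⟨T.obj₂, h₂⟩).op y = 0 →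
        ∃ z : H.obj (op ⟨T.obj₃, h₃⟩),
          H.map (ObjectProperty.homMk T.mor₂ : (⟨T.obj₂, h₂⟩ : (SGA6.perfP X).FullSubcategory) ⟶ ⟨T.obj₃, h₃⟩).op z = y := by
    intro T hT h₁ h₂ h₃ y hy
    obtain ⟨δ, hδ⟩ := exists_dual_triangle r T hT
    let P₁ := (dualP r).obj (op ⟨T.obj₁, h₁⟩)
    let P₂ := (dualP r).obj (op ⟨T.obj₂, h₂⟩)
    let P₃ := (dualP r).obj (op ⟨T.obj₃, h₃⟩)
    let m₁ : P₃ ⟶ P₂ := (dualP r).map (ObjectProperty.homMk T.mor₂ :
      (⟨T.obj₂, h₂⟩ : (SGA6.perfP X).FullSubcategory) ⟶ ⟨T.obj₃, h₃⟩).op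
    let m₂ : P₂ ⟶ P₁ := (dualP r).map (ObjectProperty.homMk T.mor₁ :
      (⟨T.obj₁, h₁⟩ : (SGA6.perfP X).FullSubcategory) ⟶ ⟨T.obj₂, h₂⟩).op
    let S : Triangle ((SGA6.perfP X).FullSubcategory) :=
      Triangle.mk m₁ m₂ (ObjectProperty.homMk (δ ≫ ((ι.commShiftIso (1 : ℤ)).app P₃).inv))
    have hS : S ∈ distTriang _ := by
      refine isomorphic_distinguished _ hδ _ (Triangle.isoMk _ _ (Iso.refl _) (Iso.refl _) (Iso.refl _) ?_ ?_ ?_)
      · exact (Category.comp_id _).trans (Category.id_comp _).symm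
      · exact (Category.comp_id _).trans (Category.id_comp _).symm
      · change ((δ ≫ ((ι.commShiftIso (1 : ℤ)).app P₃).inv) ≫ (ι.commShiftIso (1 : ℤ)).hom.app P₃) ≫
          (shiftFunctor (DCoh.D X) (1 : ℤ)).map (𝟙 _) = 𝟙 _ ≫ δ
        refine ((congrArg (_ ≫ ·) ((shiftFunctor (DCoh.D X) (1 : ℤ)).map_id _)).trans (Category.comp_id _)).trans ?_
        refine Eq.trans ?_ (Category.id_comp _).symm
        exact (Category.assoc _ _ _).trans ((congrArg (δ ≫ ·) ((ι.commShiftIso (1 : ℤ)).app P₃).inv_hom_id).trans (Category.comp_id _))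
    exact (ShortComplex.moduleCat_exact_iff _).1 (G.map_distinguished_exact S hS) y hy
  obtain ⟨K, hK, ⟨α⟩⟩ := Groth.Agent.S6746.result k X hreg H hlin hcoh hfinH
  let K₀ : (SGA6.perfP X).FullSubcategory := ⟨K, hK⟩
  haveI : IsIso ((β r).app K) := isIso_β r hK
  let ψ : ∀ E : (SGA6.perfP X).FullSubcategory, ((dual r).obj (op E.obj) ⟶ K) ≃ₗ[k] ((dualP r).obj (op K₀) ⟶ E) :=
    fun E => (LinearEquiv.ofBijective
      ({ toFun := fun g => (dual r).map g.hom.op ≫ @inv _ _ _ _ ((β r).app K) (isIso_β r hK)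
         map_add' := fun f g => by
          have h : (dual r).map (f + g).hom.op = (dual r).map f.hom.op + (dual r).map g.hom.op :=
            congrArg (fun t => t.hom) ((dualP r).map_add (f := f.op) (g := g.op))
          change (dual r).map (f + g).hom.op ≫ _ = _
          rw [h, Preadditive.add_comp]
         map_smul' := fun a g => by
          change (dual r).map (a • g.hom).op ≫ _ = a • ((dual r).map g.hom.op ≫ _)
          rw [dual_map_smul, CategoryTheory.Linear.smul_comp] } :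
        ((dualP r).obj (op K₀) ⟶ E) →ₗ[k] ((dual r).obj (op E.obj) ⟶ K))
      ⟨fun f g h => ObjectProperty.hom_ext _ (dual_map_injective r E.property
          ((cancel_mono (@inv _ _ _ _ ((β r).app K) (isIso_β r hK))).1 h)),
        fun g => by
          obtain ⟨g', hg'⟩ := dual_map_surjective r (isPerfect_dual r hK) E.property (g ≫ (β r).app K)
          refine ⟨ObjectProperty.homMk g', ?_⟩
          change (dual r).map g'.op ≫ @inv _ _ _ _ ((β r).app K) (isIso_β r hK) = g
          rw [hg']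
          exact (Category.assoc _ _ _).trans ((congrArg (g ≫ ·) (@IsIso.hom_inv_id _ _ _ _ ((β r).app K) (isIso_β r hK))).trans (Category.comp_id _))⟩).symm
  have hβ : ∀ E : (SGA6.perfP X).FullSubcategory, IsIso ((β r).app E.obj) := fun E => isIso_β r E.property
  let b : ∀ E : (SGA6.perfP X).FullSubcategory, E ≅ (dualP r).obj (op ((dualP r).obj (op E))) := fun E =>
    ObjectProperty.isoMk _ (@asIso _ _ _ _ ((β r).app E.obj) (hβ E))
  refine ⟨(dualP r).obj (op K₀), ⟨NatIso.ofComponents (fun E => G.mapIso (b E) ≪≫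
    α.app (op ((dualP r).obj (op E))) ≪≫ (ψ E).toModuleIso) fun {E E'} f => ?_⟩⟩
  ext x
  have hb : f ≫ (b E').hom = (b E).hom ≫ (dualP r).map ((dualP r).map f.op).op :=
    ObjectProperty.hom_ext _ ((β r).naturality f.hom)
  have h1 : G.map (b E').hom (G.map f x) =
      H.map ((dualP r).map f.op).op (G.map (b E).hom x) := by
    have := congrArg (fun t => G.map t x) hb
    simpa [H] using this
  have h2 : ∀ z, α.hom.app (op ((dualP r).obj (op E'))) (H.map ((dualP r).map f.op).op z) =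
      (dual r).map f.hom.op ≫ α.hom.app (op ((dualP r).obj (op E))) z := fun z =>
    ConcreteCategory.congr_hom (α.hom.naturality ((dualP r).map f.op).op) z
  have h3 : ∀ z : (dual r).obj (op E.obj) ⟶ K, ψ E' ((dual r).map f.hom.op ≫ z) = ψ E z ≫ f := fun z => by
    apply (ψ E').symm.injective
    rw [LinearEquiv.symm_apply_apply]
    change (dual r).map f.hom.op ≫ z = (dual r).map ((ψ E z).hom ≫ f.hom).op ≫ @inv _ _ _ _ ((β r).app K) (isIso_β r hK)
    rw [op_comp, Functor.map_comp, Category.assoc]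
    exact congrArg ((dual r).map f.hom.op ≫ ·) ((ψ E).symm_apply_apply z).symm
  change ψ E' (α.hom.app (op ((dualP r).obj (op E'))) (G.map (b E').hom (G.map f x))) =
    ψ E (α.hom.app (op ((dualP r).obj (op E))) (G.map (b E).hom x)) ≫ f
  rw [h1, h2]
  exact h3 _

end Groth.Agent.H83.Duality
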